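import Cfsg.Agent.H6.CKA

/-! Neighbouring flag subspaces do not meet in a hyperplane. -/

set_option autoImplicit false
set_option linter.unusedSimpArgs false
set_option linter.unusedSectionVars false
set_option linter.unusedVariables false

namespace Cfsg.Agent.H2.CK

open Module Submodule

variable {F V W : Type*} [Field F] [Fintype F] [AddCommGroup V] [Module F V] [FiniteDimensional F V]
  [AddCommGroup W] [Module F W] [FiniteDimensional F W] {Γ : Type*} [Group Γ] [Finite Γ]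
  [DistribMulAction Γ V] [SMulCommClass Γ F V] [DistribMulAction Γ W] [SMulCommClass Γ F W]
  {B : V →ₗ[F] W →ₗ[F] F} {S T : Submodule F V} {x y z v x' y' v' : V} {φ ψ χ w φ' ψ' : W} {g : Γ}
  {p : ℕ} [Fact p.Prime] [CharP F p] {Q : Sylow p Γ}

local notation "q" => Fintype.card F
local notation "ℓ[" x ", " y "]" => span F {x, y}

namespace Cf

variable (h : Cf Γ B)
include h

section

variable {a : ℕ} (φ0 : φ ≠ 0)
  (u : ∀ x : V, x ≠ 0 → B x φ = 0 → finrank F (Ul Γ p x φ : Submodule F V) = a + 1)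
  (hf : ∀ x y : V, x ≠ 0 → B x φ = 0 → y ∈ (Ul Γ p x φ : Submodule F V) → y ∉ F ∙ x →
    finrank F ↥(Ul Γ p x φ ⊓ Ul Γ p y φ : Submodule F V) = a)
include φ0 u hf

theorem a3three (a3 : a = 3) (x0 : x ≠ 0) (e : B x φ = 0) : False := by
  subst a3
  have mx := h.ul_self (p := p) x0 φ0 e
  have k1 : ∀ y z : V, y ∈ (Ul Γ p x φ : Submodule F V) → y ∉ F ∙ x → z ∈ (Ul Γ p x φ ⊓ Ul Γ p y φ : Submodule F V) →
      z ∉ ℓ[x, y] → (Ul Γ p x φ ⊓ Ul Γ p z φ : Submodule F V) = Ul Γ p x φ ⊓ Ul Γ p y φ := fun y z m n m' n' => by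
    have ey := h.ul_orth m
    have ez := h.ul_orth m'.1
    have c := fr3 x0 n n'
    rw [← eq_of_le_of_finrank_eq (le3 (S := Ul Γ p x φ ⊓ Ul Γ p y φ) ⟨mx, h.ul_symm x0 φ0 e m⟩
      ⟨m, h.ul_self (nz n) φ0 ey⟩ m') (c.trans (hf x y x0 e m n).symm),
      ← eq_of_le_of_finrank_eq (le3 (S := Ul Γ p x φ ⊓ Ul Γ p z φ) ⟨mx, h.ul_symm x0 φ0 e m'.1⟩
      ⟨m, h.ul_symm (nz n) φ0 ey m'.2⟩ ⟨m'.1, h.ul_self (nz n') φ0 ez⟩)
      (c.trans (hf x z x0 e m'.1 fun k => n' (l3 k)).symm)]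
  have k2 : ∀ y z : V, y ∈ (Ul Γ p x φ : Submodule F V) → y ∉ F ∙ x → z ∈ (Ul Γ p x φ ⊓ Ul Γ p y φ : Submodule F V) →
      z ∉ F ∙ x → (Ul Γ p x φ ⊓ Ul Γ p z φ : Submodule F V) = Ul Γ p x φ ⊓ Ul Γ p y φ := fun y z m n m' n' => by
    by_cases c : z ∈ ℓ[x, y]
    · obtain ⟨t, t1, t2⟩ := SetLike.exists_of_lt (lt_of_le_of_ne (ln_le.2 ⟨⟨mx, h.ul_symm x0 φ0 e m⟩,
        ⟨m, h.ul_self (nz n) φ0 (h.ul_orth m)⟩⟩ : ℓ[x, y] ≤ Ul Γ p x φ ⊓ Ul Γ p y φ) fun k => by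
          have := hf x y x0 e m n; rw [← k, fr2 x0 n] at this; omega)
      have e1 := k1 y t m n t1 t2
      have t3 : t ∉ F ∙ x := fun k => t2 (l3 k)
      rw [← e1] at m' ⊢
      exact k1 t z t1.1 t3 m' fun k => t2 ((ln_eq x0 n' (l1 _ _) c).le ((ln_eq x0 n' (l1 _ _) k).ge (l2 _ _)))
    · exact k1 y z m n m' c
  obtain ⟨y, m, n⟩ := SetLike.exists_of_lt (lt_of_le_of_ne (le1.2 mx) fun k => by
    have := u x x0 e; rw [← k, fr1 x0] at this; omega)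
  obtain ⟨y', m', n'⟩ := SetLike.exists_of_lt (lt_of_le_of_ne
    (inf_le_left : (Ul Γ p x φ ⊓ Ul Γ p y φ : Submodule F V) ≤ _) fun k => by
      have := hf x y x0 e m n; rw [k, u x x0 e] at this; omega)
  have n2 : y' ∉ F ∙ x := fun k => n' (le1.2 (⟨mx, h.ul_symm x0 φ0 e m⟩ :
    x ∈ (Ul Γ p x φ ⊓ Ul Γ p y φ : Submodule F V)) k)
  have c1 := finrank_sup_add_finrank_inf_eq (Ul Γ p x φ ⊓ Ul Γ p y φ : Submodule F V) (Ul Γ p x φ ⊓ Ul Γ p y' φ)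
  have c2 := finrank_mono (sup_le (inf_le_left : (Ul Γ p x φ ⊓ Ul Γ p y φ : Submodule F V) ≤ _)
    (inf_le_left : (Ul Γ p x φ ⊓ Ul Γ p y' φ : Submodule F V) ≤ _))
  rw [hf x y x0 e m n, hf x y' x0 e m' n2] at c1
  rw [u x x0 e] at c2
  obtain ⟨z, z1, z2⟩ : ∃ z ∈ (Ul Γ p x φ ⊓ Ul Γ p y φ : Submodule F V) ⊓ (Ul Γ p x φ ⊓ Ul Γ p y' φ), z ∉ F ∙ x := by
    by_contra! hh
    have := finrank_mono (show _ ≤ F ∙ x from hh)
    rw [fr1 x0] at this; omega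
  exact n' ((k2 y z m n z1.1 z2).le ((k2 y' z m' n2 z1.2 z2).ge ⟨m', h.ul_self (nz n') φ0 (h.ul_orth m')⟩))

theorem a3E (x0 : x ≠ 0) (e : B x φ = 0) (m : y ∈ (Ul Γ p x φ : Submodule F V)) (n : y ∉ F ∙ x)
    (m' : z ∈ (Ul Γ p y φ : Submodule F V)) (n' : z ∉ (Ul Γ p x φ : Submodule F V)) :
    a ≤ finrank F ↥(Ul Γ p x φ ⊓ Ul Γ p z φ : Submodule F V) + 1 := by
  have y0 := nz n
  have ey := h.ul_orth m
  have c1 := finrank_sup_add_finrank_inf_eq (Ul Γ p y φ ⊓ Ul Γ p x φ : Submodule F V) (Ul Γ p y φ ⊓ Ul Γ p z φ)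
  have c2 := finrank_mono (sup_le (inf_le_left : (Ul Γ p y φ ⊓ Ul Γ p x φ : Submodule F V) ≤ _)
    (inf_le_left : (Ul Γ p y φ ⊓ Ul Γ p z φ : Submodule F V) ≤ _))
  have c3 := finrank_mono (inf_le_inf (inf_le_right : (Ul Γ p y φ ⊓ Ul Γ p x φ : Submodule F V) ≤ _)
    (inf_le_right : (Ul Γ p y φ ⊓ Ul Γ p z φ : Submodule F V) ≤ _))
  rw [hf y x y0 ey (h.ul_symm x0 φ0 e m) (ind_symm x0 n), hf y z y0 ey m' fun k => n' (le1.2 m k)] at c1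
  rw [u y y0 ey] at c2
  omega

theorem a3S (x0 : x ≠ 0) (e : B x φ = 0) (m : y ∈ (Ul Γ p x φ : Submodule F V)) (n : y ∉ F ∙ x) :
    finrank F ↥(Ul Γ p x φ ⊔ Ul Γ p y φ : Submodule F V) = a + 2 := by
  have c1 := finrank_sup_add_finrank_inf_eq (Ul Γ p x φ : Submodule F V) (Ul Γ p y φ)
  rw [hf x y x0 e m n, u x x0 e, u y (nz n) (h.ul_orth m)] at c1
  omega

theorem a3I (a4 : 4 ≤ a) (x0 : x ≠ 0) (e : B x φ = 0) (m : y ∈ (Ul Γ p x φ : Submodule F V)) (n : y ∉ F ∙ x)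
    (m' : y' ∈ (Ul Γ p x φ : Submodule F V)) (n' : y' ∉ F ∙ x) :
    (Ul Γ p y' φ : Submodule F V) ≤ Ul Γ p x φ ⊔ Ul Γ p y φ := fun v hv => by
  by_cases c : v ∈ (Ul Γ p x φ : Submodule F V)
  · exact mem_sup_left c
  obtain ⟨z, z1, z2⟩ : ∃ z ∈ (Ul Γ p y φ : Submodule F V), z ∉ (Ul Γ p x φ : Submodule F V) := by
    by_contra! hh
    have := hf x y x0 e m n
    rw [inf_eq_right.2 (show _ ≤ (Ul Γ p x φ : Submodule F V) from hh), u y (nz n) (h.ul_orth m)] at this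
    omega
  have c0 := h.a3E φ0 u hf x0 e m n z1 z2
  have c0' := h.a3E φ0 u hf x0 e m' n' hv c
  have c1 := finrank_sup_add_finrank_inf_eq (Ul Γ p x φ ⊓ Ul Γ p z φ : Submodule F V) (Ul Γ p x φ ⊓ Ul Γ p v φ)
  have c2 := finrank_mono (sup_le (inf_le_left : (Ul Γ p x φ ⊓ Ul Γ p z φ : Submodule F V) ≤ _)
    (inf_le_left : (Ul Γ p x φ ⊓ Ul Γ p v φ : Submodule F V) ≤ _))
  rw [u x x0 e] at c2
  obtain ⟨t, t1, t0⟩ := exists_mem_ne_zero_of_ne_bot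
    (p := (Ul Γ p x φ ⊓ Ul Γ p z φ : Submodule F V) ⊓ (Ul Γ p x φ ⊓ Ul Γ p v φ))
    fun k => by rw [k, finrank_bot] at c1; omega
  have i1 := h.ul_symm (nz z2) φ0 (h.ul_orth z1) t1.1.2
  have i2 := h.ul_symm (nz c) φ0 (h.ul_orth hv) t1.2.2
  have t2 : t ∉ F ∙ x := fun k => z2 (ul_congr (Γ := Γ) (p := p) k t0 (sp1 φ) φ0 ▸ i1)
  have c3 := finrank_lt_finrank_of_lt (left_lt_sup.2 fun k => z2 (le1.1 k))
  rw [u x x0 e] at c3
  exact sup_le_sup_left (le1.2 z1) _ ((eq_of_le_of_finrank_le (sup_le_sup_left (le1.2 i1) (Ul Γ p x φ))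
    (by rw [h.a3S φ0 u hf x0 e t1.1.1 t2]; omega)).ge (mem_sup_right i2))

theorem a3P (a4 : 4 ≤ a) (x0 : x ≠ 0) (e : B x φ = 0) (m : y ∈ (Ul Γ p x φ : Submodule F V)) (n : y ∉ F ∙ x)
    (m' : z ∈ (Ul Γ p x φ ⊔ Ul Γ p y φ : Submodule F V)) (z0 : z ≠ 0) :
    (Ul Γ p z φ : Submodule F V) ≤ Ul Γ p x φ ⊔ Ul Γ p y φ := by
  have mx := h.ul_self (p := p) x0 φ0 e
  by_cases c : z ∈ (Ul Γ p x φ : Submodule F V)
  · by_cases d : z ∈ F ∙ x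
    · rw [ul_congr d z0 (sp1 φ) φ0]; exact le_sup_left
    · exact h.a3I φ0 u hf a4 x0 e m n c d
  obtain ⟨s, s1, t, t1, rfl⟩ := mem_sup.1 m'
  obtain ⟨g, hg, k⟩ := h.cos x0 φ0 e (v := t) (fun k => c (add_mem s1 (le1.2 mx k))) s1
    fun k => c (add_comm t s ▸ le1.2 mx k)
  have m2 : g • y ∈ (Ul Γ p x φ : Submodule F V) := st_ul hg.1 hg.2 x0 φ0 y m
  have n2 := nm_st hg.1 n
  have m3 : s + t ∈ (Ul Γ p (g • y) φ : Submodule F V) := by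
    rw [h.ust φ0 hg.2, add_comm, ← k, smul_mp]; exact t1
  exact (h.a3I φ0 u hf a4 (nz n2) (h.ul_orth m2) (h.ul_symm x0 φ0 e m2) (ind_symm x0 n2) m3
    fun k => c (le1.2 m2 k)).trans (sup_le (h.a3I φ0 u hf a4 x0 e m n m2 n2) le_sup_left)

theorem a3four (a4 : 4 ≤ a) (n1 : a + 4 ≤ finrank F V) (n2 : finrank F V ≤ 2 * a + 4) (x0 : x ≠ 0)
    (e : B x φ = 0) : False := by
  have ex : ∀ x : V, x ≠ 0 → B x φ = 0 → ∃ y ∈ (Ul Γ p x φ : Submodule F V), y ∉ F ∙ x := fun x x0 e =>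
    SetLike.exists_of_lt (lt_of_le_of_ne (le1.2 (h.ul_self x0 φ0 e)) fun k => by
      have := u x x0 e; rw [← k, fr1 x0] at this; omega)
  have le : ∀ x y : V, (Ul Γ p x φ ⊔ Ul Γ p y φ : Submodule F V) ≤ pp B.flip (F ∙ φ) := fun x y =>
    sup_le (fun w k => pp1.2 (h.ul_orth k)) fun w k => pp1.2 (h.ul_orth k)
  have c := h.flip.fr_pp (F ∙ φ)
  rw [fr1 φ0, h.fr] at c
  obtain ⟨y, m, n⟩ := ex x x0 e
  have c1 := h.a3S φ0 u hf x0 e m n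
  obtain ⟨x', i, j⟩ := SetLike.exists_of_lt (lt_of_le_of_ne (le x y) fun k => by rw [k] at c1; omega)
  obtain ⟨y', m', n'⟩ := ex x' (nz j) (pp1' i)
  have c2 := h.a3S φ0 u hf (nz j) (pp1' i) m' n'
  have c3 := finrank_sup_add_finrank_inf_eq (Ul Γ p x φ ⊔ Ul Γ p y φ : Submodule F V) (Ul Γ p x' φ ⊔ Ul Γ p y' φ)
  have c4 := finrank_mono (sup_le (le x y) (le x' y'))
  obtain ⟨t, t1, t0⟩ := exists_mem_ne_zero_of_ne_bot
    (p := (Ul Γ p x φ ⊔ Ul Γ p y φ : Submodule F V) ⊓ (Ul Γ p x' φ ⊔ Ul Γ p y' φ))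
    fun k => by rw [k, finrank_bot] at c3; omega
  have et := pp1' (le x y t1.1)
  obtain ⟨s, s1, s2⟩ := ex t t0 et
  have c5 := h.a3S φ0 u hf t0 et s1 s2
  have i1 := h.a3P φ0 u hf a4 x0 e m n t1.1 t0
  have i2 := h.a3P φ0 u hf a4 (nz j) (pp1' i) m' n' t1.2 t0
  exact j ((eq_of_le_of_finrank_eq (sup_le i1 (h.a3P φ0 u hf a4 x0 e m n (i1 s1) (nz s2))) (c5.trans c1.symm)).le
    ((eq_of_le_of_finrank_eq (sup_le i2 (h.a3P φ0 u hf a4 (nz j) (pp1' i) m' n' (i2 s1) (nz s2)))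
      (c5.trans c2.symm)).ge (mem_sup_left (h.ul_self (nz j) φ0 (pp1' i)))))

/-- A3 -/
theorem a3 (a3 : 3 ≤ a) (n1 : a + 4 ≤ finrank F V) (n2 : finrank F V ≤ 11) (x0 : x ≠ 0) (e : B x φ = 0) :
    False := by
  by_cases k : a = 3
  · exact h.a3three φ0 u hf k x0 e
  · exact h.a3four φ0 u hf (by omega) n1 (by omega) x0 e

end

end Cf

end Cfsg.Agent.H2.CK
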