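import Cfsg.Agent.H6.CKA
import Cfsg.Agent.H4.CKA

/-! The middle cases. -/

set_option autoImplicit false
set_option linter.unusedSimpArgs false
set_option linter.unusedSectionVars false
set_option linter.unusedVariables false

namespace Cfsg.Agent.H2.CK

open Module Submodule

variable {F V W : Type*} [Field F] [Fintype F] [AddCommGroup V] [Module F V] [FiniteDimensional F V]
  [AddCommGroup W] [Module F W] [FiniteDimensional F W] {Γ : Type*} [Group Γ] [Finite Γ]
  [DistribMulAction Γ V] [SMulCommClass Γ F V] [DistribMulAction Γ W] [SMulCommClass Γ F W]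
  {B : V →ₗ[F] W →ₗ[F] F} {S T : Submodule F V} {x y z v x' y' v' : V} {φ ψ χ w φ' ψ' : W} {g : Γ}
  {p : ℕ} [Fact p.Prime] [CharP F p] {Q : Sylow p Γ}

local notation "q" => Fintype.card F
local notation "ℓ[" x ", " y "]" => span F {x, y}

namespace Cf

variable (h : Cf Γ B)
include h

theorem cA3 {a b : ℕ} (n8 : 8 ≤ finrank F V) (n11 : finrank F V ≤ 11)
    (u : ∀ (x : V) (φ : W), x ≠ 0 → φ ≠ 0 → B x φ = 0 → finrank F (Ul Γ p x φ : Submodule F V) = a + 1)
    (u' : ∀ (φ : W) (x : V), φ ≠ 0 → x ≠ 0 → B.flip φ x = 0 → finrank F (Ul Γ p φ x : Submodule F W) = b + 1)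
    (a3 : 3 ≤ a) (b3 : 3 ≤ b) (ha : a + 3 ≤ finrank F V) (hb : b + 3 ≤ finrank F V) : False := by
  have ab : a + b + 2 ≤ finrank F V := by
    obtain ⟨x, x0⟩ := h.exn1 0
    replace x0 := nz x0
    obtain ⟨y, n⟩ := h.exn1 x
    obtain ⟨φ, k⟩ := h.exph p x0 n
    have e := h.po1 k
    have c1 := finrank_mono (h.ut (p := p) x0 k.1 (by rw [u' φ x k.1 x0 e]; omega))
    have c2 := h.flip.fr_pp (Ul Γ p φ x)
    rw [u' φ x k.1 x0 e, h.fr] at c2
    rw [u x φ x0 k.1 e] at c1
    omega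
  exact h.a45 n8 n11 a3 b3 hb u u' 
    (fun x φ y c d e m y0 => h.a23 n11 a3 (by omega) d (fun x c e => u x φ c d e) c e m y0)
    fun φ x ψ c d e m y0 => h.flip.a23 (by rw [h.fr]; omega) b3 (by rw [h.fr]; omega) d
      (fun φ c e => u' φ x c d e) c e m y0

end Cf

end Cfsg.Agent.H2.CK
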