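import Cfsg.Agent.H9.Sp.Ten4
import Cfsg.Agent.H9.Sp.Ten5
import Cfsg.Agent.H9.Sp.UnitFin

/-! The tensor product `Sp_2 ⊗ O_4^-` in `Sp_8` (a variant of `H9.Sp.Ten4`-`Ten7`). -/

set_option autoImplicit false
set_option linter.unusedSimpArgs false
set_option linter.unusedSectionVars false

namespace Cfsg.Agent.H9.Sp.Min4

open Module Cfsg.Agent.H6

attribute [-simp] LinearEquiv.coe_inv Submodule.mem_map_equiv

variable {F : Type*} [Field F] {U : Type*} [AddCommGroup U] [Module F U] [FiniteDimensional F U]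
  {W : Type*} [AddCommGroup W] [Module F W] [FiniteDimensional F W]

variable {B₁ : U →ₗ[F] U →ₗ[F] F} {f : W →ₗ[F] W →ₗ[F] F}
  {B : (U →ₗ[F] W) →ₗ[F] (U →ₗ[F] W) →ₗ[F] F} {M : Subgroup ((U →ₗ[F] W) ≃ₗ[F] (U →ₗ[F] W))}

variable (f) in
/-- Witt index at most one -/
def W1 : Prop := ∀ Y : Submodule F W, (∀ y ∈ Y, ∀ y' ∈ Y, f y y' = 0) → finrank F Y < 2

theorem F3 (hC : Ctx B₁ f B M) (hab : W1 f) {u : U}
    (hu : u ≠ 0) {g : (U →ₗ[F] W) ≃ₗ[F] (U →ₗ[F] W)} (hg : g ∈ M)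
    (hK : Kron (g * rho hC.T u 1 * g⁻¹)) : Kron g := by
  have hs := hC.T.s1
  have hf := hC.T.s2
  have hW := hC.hW
  obtain ⟨A, h, h1⟩ := hK
  have h2 : ∀ X, (g * rho hC.T u 1 * g⁻¹) X = X + g (rk (B₁ u) (g⁻¹ X u)) := fun X => by
    simp [rho_apply]
  obtain ⟨x₁, hx₁⟩ := hs.exists_one hu
  obtain ⟨z, -, hz⟩ := exists_ne_zero_of_finrank (K := (⊤ : Submodule F W)) (by simp; omega)
  have hp : ∀ w : W, rk (B₁ (-x₁)) w u = w := fun w => by simp [hs.skew x₁ u, hx₁]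
  by_cases hh : ∃ c : F, ∀ y, h y = c • y
  swap
  · obtain ⟨y, hy⟩ : ∃ y, ∀ c : F, h y ≠ c • y := by
      by_contra! h'
      exact hh (eig_const (h : U →ₗ[F] U) LinearMap.id (fun _ _ h => h) h')
    obtain ⟨φ, h3, h4⟩ := exists_dual_pair hy
    have h5 : ∀ w, φ (h (h y)) • A w = (2 : F) • w := fun w => by
      have e1 : (g * rho hC.T u 1 * g⁻¹) ((g * rho hC.T u 1 * g⁻¹) (rk φ w)) =
          (2 : F) • (g * rho hC.T u 1 * g⁻¹) (rk φ w) - rk φ w := by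
        simp only [h2, map_add, inv_apply_apply, LinearMap.add_apply, rk_apply, hs.alt, zero_smul,
          map_zero]
        module
      have e2 := LinearMap.congr_fun e1 y
      simp only [h1, LinearMap.sub_apply, LinearMap.smul_apply, rk_apply, h3, h4, map_smul,
        zero_smul, one_smul, sub_zero] at e2
      exact A.injective (by simpa using e2)
    have hc : φ (h (h y)) ≠ 0 := fun h0 => hz (by simpa [h0, hf.two] using (h5 z).symm)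
    let N : U →ₗ[F] U := (2 / φ (h (h y))) • (h : U →ₗ[F] U) - LinearMap.id
    have h6 : ∀ X, g (rk (B₁ u) (g⁻¹ X u)) = X ∘ₗ N := fun X => by
      ext y'
      have e1 := h1 X y'
      have e2 := h5 (X (h y'))
      rw [← eq_inv_smul_iff₀ hc] at e2
      rw [h2, e2] at e1
      simp only [N, LinearMap.comp_apply, LinearMap.sub_apply, LinearMap.smul_apply, map_sub,
        map_smul, LinearMap.id_apply, LinearEquiv.coe_coe]
      rw [LinearMap.add_apply] at e1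
      linear_combination (norm := skip) e1
      match_scalars <;> field_simp <;> ring
    obtain ⟨ψ, hψ⟩ : ∃ ψ : Dual F U, ψ ∘ₗ N ≠ 0 := by
      by_contra! h7
      have h8 : N = 0 := LinearMap.ext fun y => eq_zero_of_forall_dual (F := F) fun φ =>
        LinearMap.congr_fun (h7 φ) y
      have := h6 (g (rk (B₁ (-x₁)) z))
      rw [h8, LinearMap.comp_zero, inv_apply_apply, hp, EmbeddingLike.map_eq_zero_iff] at this
      exact rk_ne_zero (hs.left_ne hu) hz this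
    refine hC.kron_of_line hu hψ hg fun w => ?_
    have h7 : rk (ψ ∘ₗ N) w = rk ψ w ∘ₗ N := rfl
    rw [h7, ← h6, inv_apply_apply]
    exact rk_mem_TL _ _
  exfalso
  obtain ⟨c, hc⟩ := hh
  let N : W →ₗ[F] W := c • (A : W →ₗ[F] W) - LinearMap.id
  have h6 : ∀ X, g (rk (B₁ u) (g⁻¹ X u)) = N ∘ₗ X := fun X => by
    ext y'
    have e1 := h1 X y'
    rw [h2, hc, LinearMap.add_apply] at e1
    simp only [N, LinearMap.comp_apply, LinearMap.sub_apply, LinearMap.smul_apply, map_sub,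
      map_smul, LinearMap.id_apply, LinearEquiv.coe_coe] at e1 ⊢
    linear_combination (norm := module) e1
  have h7 : ∀ (φ : Dual F U) w, N ∘ₗ rk φ w = rk φ (N w) := fun φ w => by ext; simp
  have h8 : ∀ w w', f (N w) w' = -f (N w') w := fun w w' => by
    have e : ∀ X Y, B (N ∘ₗ X) Y = B (N ∘ₗ Y) X := fun X Y => by
      rw [← h6, ← h6, Sp_left (hC.hM hg), Sp_left (hC.hM hg), hC.T.hB, hC.T.hB, hf.symm]
    have := e (rk (B₁ x₁) w) (rk (B₁ u) w')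
    rw [h7, h7, hC.T.hB, hC.T.hB] at this
    simpa [hx₁, hs.skew x₁ u] using this
  have h9 : ∀ y ∈ LinearMap.range N, ∀ y' ∈ LinearMap.range N, f y y' = 0 := by
    rintro _ ⟨w, rfl⟩ _ ⟨w', rfl⟩
    have := hC.T.L_iso u _ (rk_mem_TL _ (g⁻¹ (rk (B₁ x₁) w) u)) _
      (rk_mem_TL _ (g⁻¹ (rk (B₁ u) w') u))
    rw [← hC.hM hg, h6, h6, h7, h7, hC.T.hB] at this
    simpa [hx₁] using this
  have k3 : 2 ≤ finrank F (LinearMap.range N) := by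
    by_contra! h'
    obtain ⟨v, hv⟩ := finrank_le_one_iff.1 (Nat.le_of_lt_succ h')
    obtain ⟨w₁, hw₁⟩ : ∃ w, N w ≠ 0 := by
      by_contra! h''
      have := h6 (g (rk (B₁ (-x₁)) z))
      rw [inv_apply_apply, hp, show N = 0 from LinearMap.ext h'', LinearMap.zero_comp,
        EmbeddingLike.map_eq_zero_iff] at this
      exact rk_ne_zero (hs.left_ne hu) hz this
    obtain ⟨w₂, hw₂⟩ := hf.exists_ne hw₁
    obtain ⟨c₁, e1⟩ := hv ⟨_, w₁, rfl⟩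
    obtain ⟨c₂, e2⟩ := hv ⟨_, w₂, rfl⟩
    replace e1 : c₁ • (v : W) = N w₁ := congrArg Subtype.val e1
    replace e2 : c₂ • (v : W) = N w₂ := congrArg Subtype.val e2
    have e3 : f (N w₂) w₂ = 0 := (mul_eq_zero.1 (show 2 * f (N w₂) w₂ = 0 by
      linear_combination h8 w₂ w₂)).resolve_left hf.two
    rw [← e2] at e3
    have e4 : c₂ = 0 := by
      rw [← e1] at hw₂
      simp only [map_smul, LinearMap.smul_apply, smul_eq_mul, ne_eq, mul_eq_zero, not_or] at hw₂ e3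
      exact e3.resolve_right hw₂.2
    apply hw₂
    rw [h8, ← e2, e4]
    simp
  exact (hab _ h9).not_ge k3

variable (W) in
/-- the nilpotent part of `t_u ⊗ 1` -/
def sg (B₁ : U →ₗ[F] U →ₗ[F] F) (u : U) : (U →ₗ[F] W) →ₗ[F] (U →ₗ[F] W) :=
  rk (B₁ u) ∘ₗ LinearMap.applyₗ u

@[simp] theorem sg_apply (u : U) (v : U →ₗ[F] W) : sg W B₁ u v = rk (B₁ u) (v u) := rfl

variable (W) in
/-- the translate of the line `u ⊗ W` -/
abbrev Lg (B₁ : U →ₗ[F] U →ₗ[F] F) (u : U) (g : (U →ₗ[F] W) ≃ₗ[F] (U →ₗ[F] W)) :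
    Submodule F (U →ₗ[F] W) := (TL W (B₁ u)).map (g : (U →ₗ[F] W) →ₗ[F] (U →ₗ[F] W))

/-- a pair of lines in different blocks with maximal intersection -/
structure Pq (B₁ : U →ₗ[F] U →ₗ[F] F) (f : W →ₗ[F] W →ₗ[F] F) (M : Subgroup ((U →ₗ[F] W) ≃ₗ[F] (U →ₗ[F] W))) (u : U)
    (g : (U →ₗ[F] W) ≃ₗ[F] (U →ₗ[F] W)) : Prop where
  hab : W1 f
  hu : u ≠ 0
  hg : g ∈ M
  nk : ¬ Kron g
  mx : ∀ m ∈ M, finrank F ↥(TL W (B₁ u) ⊓ Lg W B₁ u g) < finrank F ↥(TL W (B₁ u) ⊓ Lg W B₁ u m) →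
    Kron m

theorem exists_pr (hab : W1 f) {u : U} (hu : u ≠ 0)
    (h : ∃ g ∈ M, ¬ Kron g) : ∃ g, Pq B₁ f M u g := by
  classical
  have hex : ∃ d, ∀ m ∈ M, d ≤ finrank F ↥(TL W (B₁ u) ⊓ Lg W B₁ u m) → Kron m :=
    ⟨finrank F (U →ₗ[F] W) + 1, fun m _ h =>
      absurd (Submodule.finrank_le (TL W (B₁ u) ⊓ Lg W B₁ u m)) (by omega)⟩
  have h0 : Nat.find hex ≠ 0 := fun h0 => by
    obtain ⟨g, hg, hg'⟩ := h
    exact hg' (Nat.find_spec hex g hg (by omega))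
  have h1 := Nat.find_min hex (m := Nat.find hex - 1) (by omega)
  simp only [not_forall] at h1
  obtain ⟨g, h2, h3, h4⟩ := h1
  exact ⟨g, hab, hu, h2, h4, fun m hm h5 => Nat.find_spec hex m hm (by omega)⟩

theorem kron_stab {φ : Dual F U} (hφ : φ ≠ 0) {m : (U →ₗ[F] W) ≃ₗ[F] (U →ₗ[F] W)} (hm : Kron m)
    {l : U →ₗ[F] W} (hl : l ∈ TL W φ) (hl0 : l ≠ 0) (h : m l ∈ TL W φ) :
    ∀ v ∈ TL W φ, m v ∈ TL W φ := by
  obtain ⟨A, k, h1⟩ := hm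
  obtain ⟨w, rfl⟩ := hl
  rintro _ ⟨w', rfl⟩
  refine mem_TL_of hφ fun y hy => ?_
  have := TL_apply h hy
  rw [h1] at this ⊢
  have hw : w ≠ 0 := by rintro rfl; simp at hl0
  have h2 : φ (k y) = 0 := by simpa [hw] using this
  simp [h2]

variable {u : U} {g : (U →ₗ[F] W) ≃ₗ[F] (U →ₗ[F] W)}

theorem mem_Lg {v : U →ₗ[F] W} : v ∈ Lg W B₁ u g ↔ g⁻¹ v ∈ TL W (B₁ u) := mem_map_equiv'

theorem Pq.key (hC : Ctx B₁ f B M) (hP : Pq B₁ f M u g) {m : (U →ₗ[F] W) ≃ₗ[F] (U →ₗ[F] W)}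
    (hm : m ∈ M) {K : Submodule F (U →ₗ[F] W)} (h1 : K ≤ TL W (B₁ u))
    (h2 : ∀ v ∈ K, m v ∈ TL W (B₁ u))
    (h3 : finrank F ↥(TL W (B₁ u) ⊓ Lg W B₁ u g) < finrank F K) :
    Kron m ∧ ∀ v ∈ TL W (B₁ u), m v ∈ TL W (B₁ u) := by
  have h4 : Kron m := hP.mx m hm (h3.trans_le (by
    rw [← LinearEquiv.finrank_map_eq m K]
    apply Submodule.finrank_mono
    rintro _ ⟨v, hv, rfl⟩
    exact ⟨h2 v hv, v, h1 hv, rfl⟩))
  obtain ⟨l, hl, hl0⟩ := exists_ne_zero_of_finrank (K := K) (by omega)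
  exact ⟨h4, kron_stab (hC.T.s1.left_ne hP.hu) h4 (h1 hl) hl0 (h2 l hl)⟩

theorem Pq.key' (hC : Ctx B₁ f B M) (hP : Pq B₁ f M u g) {k m : (U →ₗ[F] W) ≃ₗ[F] (U →ₗ[F] W)}
    (hk : k ∈ M) (hm : m ∈ M) {K : Submodule F (U →ₗ[F] W)} (h1 : K ≤ Lg W B₁ u k)
    (h2 : ∀ v ∈ K, m v ∈ Lg W B₁ u k)
    (h3 : finrank F ↥(TL W (B₁ u) ⊓ Lg W B₁ u g) < finrank F K) :
    Kron (k⁻¹ * m * k) ∧ ∀ v ∈ Lg W B₁ u k, m v ∈ Lg W B₁ u k := by
  obtain ⟨h4, h5⟩ := hP.key hC (M.mul_mem (M.mul_mem (M.inv_mem hk) hm) hk)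
    (K := K.map ((k⁻¹ : (U →ₗ[F] W) ≃ₗ[F] (U →ₗ[F] W)) : (U →ₗ[F] W) →ₗ[F] (U →ₗ[F] W)))
    (by rintro _ ⟨v, hv, rfl⟩; exact mem_Lg.1 (h1 hv))
    (by rintro _ ⟨v, hv, rfl⟩; simpa using mem_Lg.1 (h2 v hv))
    (by rwa [LinearEquiv.finrank_map_eq])
  exact ⟨h4, fun v hv => mem_Lg.2 (by simpa using h5 _ (mem_Lg.1 hv))⟩

theorem finrank_inf_inv : finrank F ↥(TL W (B₁ u) ⊓ Lg W B₁ u g⁻¹) =
    finrank F ↥(TL W (B₁ u) ⊓ Lg W B₁ u g) := by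
  have : (TL W (B₁ u) ⊓ Lg W B₁ u g⁻¹).map (g : (U →ₗ[F] W) →ₗ[F] (U →ₗ[F] W)) =
      TL W (B₁ u) ⊓ Lg W B₁ u g := by
    ext v
    simp only [mem_map_equiv', Submodule.mem_inf, inv_inv, apply_inv_apply, and_comm]
  rw [← LinearEquiv.finrank_map_eq g, this]

theorem Pq.inv (hP : Pq B₁ f M u g) : Pq B₁ f M u g⁻¹ :=
  ⟨hP.hab, hP.hu, M.inv_mem hP.hg, fun h => hP.nk (by simpa using kron_inv h),
    by rw [finrank_inf_inv]; exact hP.mx⟩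

theorem Pq.not_rho (hC : Ctx B₁ f B M) (hP : Pq B₁ f M u g) {k : (U →ₗ[F] W) ≃ₗ[F] (U →ₗ[F] W)}
    (hk : k ∈ M) (hk' : ¬ Kron k) {x : U} (hx : x ≠ 0) : ¬ Kron (k⁻¹ * rho hC.T x 1 * k) :=
  fun h => hk' (by simpa using kron_inv (F3 hC hP.hab hx (M.inv_mem hk) (by simpa using h)))

theorem Pq.E (hC : Ctx B₁ f B M) (hP : Pq B₁ f M u g) {k : (U →ₗ[F] W) ≃ₗ[F] (U →ₗ[F] W)}
    (hk : k ∈ M) (hk' : ¬ Kron k) {x : U} (hx : x ≠ 0) {K : Submodule F (U →ₗ[F] W)}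
    (h1 : K ≤ Lg W B₁ u k) (h2 : ∀ v ∈ K, v x = 0) :
    finrank F K ≤ finrank F ↥(TL W (B₁ u) ⊓ Lg W B₁ u g) := by
  by_contra! h
  exact hP.not_rho hC hk hk' hx (hP.key' hC hk (hC.rho_mem x 1) h1
    (fun v hv => by simpa [rho_apply, h2 v hv] using h1 hv) h).1

theorem Pq.N1 (hC : Ctx B₁ f B M) (hP : Pq B₁ f M u g) {v : U →ₗ[F] W} (hv : v ∈ Lg W B₁ u g)
    (h : sg W B₁ u v ∈ Lg W B₁ u g) : v ∈ TL W (B₁ u) := by
  by_contra h1
  refine hP.not_rho hC hP.hg hP.nk hP.hu (hP.key' hC hP.hg (hC.rho_mem u 1)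
    (K := (TL W (B₁ u) ⊓ Lg W B₁ u g) ⊔ Submodule.span F {v})
    (sup_le inf_le_right ((Submodule.span_singleton_le_iff_mem _ _).2 hv)) ?_ ?_).1
  · intro x hx
    obtain ⟨a, ha, b, hb, rfl⟩ := Submodule.mem_sup.1 hx
    obtain ⟨c, rfl⟩ := Submodule.mem_span_singleton.1 hb
    rw [map_add, map_smul, rho_apply, rho_apply, hC.T.L_apply ha.1]
    simpa using Submodule.add_mem _ ha.2 (Submodule.smul_mem _ c (Submodule.add_mem _ hv h))
  · rw [Submodule.finrank_sup_span_singleton fun h => h1 (Submodule.mem_inf.1 h).1]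
    omega

theorem Pq.N2 (hC : Ctx B₁ f B M) (hP : Pq B₁ f M u g) {v : U →ₗ[F] W} (hv : v ∈ TL W (B₁ u))
    (h : cj g (sg W B₁ u) v ∈ TL W (B₁ u)) : v ∈ Lg W B₁ u g :=
  mem_Lg.2 (hP.inv.N1 hC (mem_Lg.2 (by simpa using hv)) (mem_Lg.2 (by simpa using h)))

theorem Pq.S1 (hC : Ctx B₁ f B M) (hP : Pq B₁ f M u g) {l : U →ₗ[F] W} (hl : l ∈ TL W (B₁ u)) :
    ∃ v ∈ Lg W B₁ u g, l - sg W B₁ u v ∈ Lg W B₁ u g := by
  have h1 := finrank_map_add_inf_ker (Lg W B₁ u g) (sg W B₁ u)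
  have h2 : Lg W B₁ u g ⊓ LinearMap.ker (sg W B₁ u) = TL W (B₁ u) ⊓ Lg W B₁ u g := by
    ext v
    constructor
    · rintro ⟨h3, h4⟩
      replace h4 : sg W B₁ u v = 0 := h4
      exact ⟨hP.N1 hC h3 (h4 ▸ Submodule.zero_mem _), h3⟩
    · rintro ⟨h3, h4⟩
      exact ⟨h4, by simp [hC.T.L_apply h3]⟩
  have h3 := Submodule.finrank_sup_add_finrank_inf_eq ((Lg W B₁ u g).map (sg W B₁ u))
    (TL W (B₁ u) ⊓ Lg W B₁ u g)
  have h4 : (Lg W B₁ u g).map (sg W B₁ u) ⊓ (TL W (B₁ u) ⊓ Lg W B₁ u g) = ⊥ := by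
    rw [eq_bot_iff]
    rintro _ ⟨⟨v, hv, rfl⟩, -, h5⟩
    simp [hC.T.L_apply (hP.N1 hC hv h5)]
  rw [h4, finrank_bot] at h3
  rw [h2, LinearEquiv.finrank_map_eq] at h1
  have h5 : (Lg W B₁ u g).map (sg W B₁ u) ⊔ (TL W (B₁ u) ⊓ Lg W B₁ u g) = TL W (B₁ u) :=
    Submodule.eq_of_le_of_finrank_eq
      (sup_le (by rintro _ ⟨v, -, rfl⟩; exact rk_mem_TL _ _) inf_le_left) (by omega)
  rw [← h5] at hl
  obtain ⟨_, ⟨v, hv, rfl⟩, b, hb, rfl⟩ := Submodule.mem_sup.1 hl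
  exact ⟨v, hv, by simpa using hb.2⟩

theorem Pq.S2 (hC : Ctx B₁ f B M) (hP : Pq B₁ f M u g) {l : U →ₗ[F] W} (hl : l ∈ Lg W B₁ u g) :
    ∃ v ∈ TL W (B₁ u), l - cj g (sg W B₁ u) v ∈ TL W (B₁ u) := by
  obtain ⟨v, h1, h2⟩ := hP.inv.S1 hC (mem_Lg.1 hl)
  exact ⟨g v, by simpa using mem_Lg.1 h1, by simpa using mem_Lg.1 h2⟩

theorem Pq.exists_not_mem (hC : Ctx B₁ f B M) (hP : Pq B₁ f M u g) :
    ∃ l ∈ TL W (B₁ u), l ∉ Lg W B₁ u g := by
  by_contra! h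
  exact hP.nk (hC.kron_of_line hP.hu (hC.T.s1.left_ne hP.hu) hP.hg fun w =>
    mem_Lg.1 (h _ (rk_mem_TL _ _)))

theorem sg'_mem (v : U →ₗ[F] W) : cj g (sg W B₁ u) v ∈ Lg W B₁ u g := ⟨_, rk_mem_TL _ _, rfl⟩

theorem sg'_eq_zero (hT : TS B₁ f B) {v : U →ₗ[F] W} (hv : v ∈ Lg W B₁ u g) :
    cj g (sg W B₁ u) v = 0 := by simp [hT.L_apply (mem_Lg.1 hv)]

theorem Lg_iso (hC : Ctx B₁ f B M) (hg : g ∈ M) {x y : U →ₗ[F] W} (hx : x ∈ Lg W B₁ u g)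
    (hy : y ∈ Lg W B₁ u g) : B x y = 0 := by
  rw [← hC.hM (M.inv_mem hg)]
  exact hC.T.L_iso u _ (mem_Lg.1 hx) _ (mem_Lg.1 hy)

/-- a group containing the two root groups -/
def Gam (M : Subgroup ((U →ₗ[F] W) ≃ₗ[F] (U →ₗ[F] W))) (L L' : Submodule F (U →ₗ[F] W))
    (σ σ' : (U →ₗ[F] W) →ₗ[F] (U →ₗ[F] W)) : Subgroup ((U →ₗ[F] W) ≃ₗ[F] (U →ₗ[F] W)) where
  carrier := {γ | γ ∈ M ∧ (∀ a ∈ L ⊓ L', γ a = a) ∧ (∀ v, γ v - v ∈ L ⊔ L') ∧
    ∀ v, σ v ∈ L' → σ' v ∈ L → γ v - v ∈ L ⊓ L'}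
  one_mem' := ⟨M.one_mem, by simp, by simp, by simp⟩
  mul_mem' := by
    rintro a b ⟨a1, a2, a3, a4⟩ ⟨b1, b2, b3, b4⟩
    refine ⟨M.mul_mem a1 b1, fun x hx => by simp [a2 x hx, b2 x hx], fun v => ?_,
      fun v h1 h2 => ?_⟩
    · simpa using Submodule.add_mem _ (a3 (b v)) (b3 v)
    · have := a2 _ (b4 v h1 h2)
      rw [map_sub, sub_eq_iff_eq_add] at this
      rw [LinearEquiv.mul_apply, this, add_sub_assoc]
      exact Submodule.add_mem _ (b4 v h1 h2) (a4 v h1 h2)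
  inv_mem' := by
    rintro a ⟨a1, a2, a3, a4⟩
    refine ⟨M.inv_mem a1, fun x hx => inv_fix (a2 x hx), fun v => ?_, fun v h1 h2 => ?_⟩
    · simpa using Submodule.neg_mem _ (a3 (a⁻¹ v))
    · have := inv_fix (a2 _ (a4 v h1 h2))
      rw [map_sub, inv_apply_apply] at this
      simpa [← this] using Submodule.neg_mem _ (a4 v h1 h2)

theorem Pq.dickson [Finite F] (hC : Ctx B₁ f B M) (hP : Pq B₁ f M u g) :
    (∃ γ ∈ Gam M (TL W (B₁ u)) (Lg W B₁ u g) (sg W B₁ u) (cj g (sg W B₁ u)), Kron γ ∧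
      (∀ v ∈ TL W (B₁ u), γ v ∈ TL W (B₁ u)) ∧ ∃ l ∈ TL W (B₁ u), l ≠ 0 ∧ γ l = -l) ∧
    (4 ≤ Nat.card F → ∃ γ ∈ Gam M (TL W (B₁ u)) (Lg W B₁ u g) (sg W B₁ u) (cj g (sg W B₁ u)),
      ∃ ν : F, ν ≠ 1 ∧ ∀ v, γ (sg W B₁ u v) = ν • sg W B₁ u (γ v)) := by
  have hs := hC.T.s1
  have hf := hC.T.s2
  obtain ⟨l₀, hl₀, hl₀'⟩ := hP.exists_not_mem hC
  obtain ⟨K, _, _, _, ψ, τ, hτ, hψ0, hψ⟩ := exists_eigen_functional
    (sg W B₁ u ∘ₗ cj g (sg W B₁ u)) (by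
      intro n hn
      have : ∀ n : ℕ, ((sg W B₁ u ∘ₗ cj g (sg W B₁ u)) ^ n) l₀ ∈ TL W (B₁ u) ∧
          ((sg W B₁ u ∘ₗ cj g (sg W B₁ u)) ^ n) l₀ ∉ Lg W B₁ u g := by
        intro n
        induction n with
        | zero => exact ⟨hl₀, hl₀'⟩
        | succ n ih =>
          rw [pow_succ', Module.End.mul_apply]
          exact ⟨rk_mem_TL _ _, fun h => ih.2 (hP.N2 hC ih.1 (hP.N1 hC (sg'_mem _) h))⟩
      exact (this n).2 (by rw [hn]; exact Submodule.zero_mem _))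
  obtain ⟨v₀, hv₀⟩ : ∃ v, ψ v ≠ 0 := by
    by_contra! h; exact hψ0 (LinearMap.ext h)
  have hσ : ∀ v, sg W B₁ u (sg W B₁ u v) = 0 := fun v => by simp [hs.alt]
  have hlam : ∀ μ : Dual F K, ∃ l ∈ TL W (B₁ u), ∀ v, B l v = μ (ψ (sg W B₁ u v)) := fun μ => by
    obtain ⟨w, hw⟩ := hf.exists_dual (μ ∘ₗ ψ ∘ₗ rk (B₁ u))
    exact ⟨rk (B₁ u) w, rk_mem_TL _ _, fun v => by rw [hC.T.hB, hw]; rfl⟩
  obtain ⟨μ, hμ⟩ := exists_dual_one' (F := F) (mul_ne_zero hτ hv₀)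
  obtain ⟨l, hl, hl'⟩ := hlam μ
  have hl'' : l ∉ Lg W B₁ u g := fun h => by
    have := hl' (cj g (sg W B₁ u) v₀)
    rw [Lg_iso hC hP.hg h (sg'_mem _)] at this
    have h2 := hψ v₀
    rw [LinearMap.comp_apply] at h2
    rw [h2, hμ] at this
    exact zero_ne_one this
  have hst : ∀ γ ∈ Gam M (TL W (B₁ u)) (Lg W B₁ u g) (sg W B₁ u) (cj g (sg W B₁ u)), ∀ c : K,
      (∀ v, ψ (sg W B₁ u (γ v)) = c * ψ (sg W B₁ u v)) →
      Kron γ ∧ ∀ v ∈ TL W (B₁ u), γ v ∈ TL W (B₁ u) := by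
    intro γ hγ c hc
    obtain ⟨l', h1, h2⟩ := hlam (μ ∘ₗ LinearMap.mulLeft F c)
    have h3 : γ⁻¹ l = l' := hC.T.s.ext' fun v => by
      rw [← Sp_right (hC.hM hγ.1), hl', h2, hc]; rfl
    obtain ⟨h4, h5⟩ := hP.key hC (M.inv_mem hγ.1)
      (K := (TL W (B₁ u) ⊓ Lg W B₁ u g) ⊔ Submodule.span F {l})
      (sup_le inf_le_left ((Submodule.span_singleton_le_iff_mem _ _).2 hl)) (by
        intro x hx
        obtain ⟨a, ha, b, hb, rfl⟩ := Submodule.mem_sup.1 hx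
        obtain ⟨c, rfl⟩ := Submodule.mem_span_singleton.1 hb
        rw [map_add, map_smul, inv_fix (hγ.2.1 a ha), h3]
        exact Submodule.add_mem _ ha.1 (Submodule.smul_mem _ c h1)) (by
        rw [Submodule.finrank_sup_span_singleton fun h => hl'' (Submodule.mem_inf.1 h).2]
        omega)
    exact ⟨by simpa using kron_inv h4, by simpa using inv_mem_of_stab h5⟩
  obtain ⟨⟨γ, hγ, h1⟩, h2⟩ := pair_dickson hf.two
    (Gam M (TL W (B₁ u)) (Lg W B₁ u g) (sg W B₁ u) (cj g (sg W B₁ u))) hσ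
    (fun v => sg'_eq_zero hC.T (sg'_mem v))
    (fun c => ⟨rho hC.T u c, ⟨hC.rho_mem u c, fun a ha => by simp [rho_apply, hC.T.L_apply ha.1],
      fun v => by
        rw [rho_apply, add_sub_cancel_left]
        exact Submodule.mem_sup_left (Submodule.smul_mem _ _ (rk_mem_TL _ _)),
      fun v h _ => by
        rw [rho_apply, add_sub_cancel_left]
        exact Submodule.smul_mem _ _ ⟨rk_mem_TL _ _, h⟩⟩, rho_apply hC.T u c⟩)
    (by
      have e : ∀ v, (g * rho hC.T u 1 * g⁻¹) v = v + cj g (sg W B₁ u) v := fun v => by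
        simp [rho_apply]
      exact ⟨g * rho hC.T u 1 * g⁻¹,
        ⟨M.mul_mem (M.mul_mem hP.hg (hC.rho_mem u 1)) (M.inv_mem hP.hg),
          fun a ha => by rw [e, sg'_eq_zero hC.T ha.2, add_zero],
          fun v => by rw [e, add_sub_cancel_left]; exact Submodule.mem_sup_right (sg'_mem _),
          fun v _ h => by rw [e, add_sub_cancel_left]; exact ⟨h, sg'_mem _⟩⟩, e⟩) hτ hψ
  constructor
  · obtain ⟨h3, h4⟩ := hst γ hγ _ h1
    refine ⟨γ, hγ, h3, h4, l, hl, fun h => hl'' (h ▸ Submodule.zero_mem _), ?_⟩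
    have : γ⁻¹ l = -l := hC.T.s.ext' fun v => by
      rw [← Sp_right (hC.hM hγ.1), hl', h1, map_neg, LinearMap.neg_apply, hl']; simp
    have h5 := congrArg γ this
    rw [apply_inv_apply, map_neg] at h5
    rw [← neg_eq_iff_eq_neg, ← h5]
  · intro h4
    obtain ⟨γ, hγ, c, c', m, h5, h6, h7, h8⟩ := h2 h4
    obtain ⟨ν, -, hν⟩ := hC.conj_sigma hP.hu hγ.1 (hst γ hγ _ h8).2
    refine ⟨γ, hγ, ν, ?_, hν⟩
    rintro rfl
    have e1 := congrArg ψ (hν (cj g (sg W B₁ u) v₀))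
    rw [one_smul, ← sg_apply, ← sg_apply, h7, h8, hσ, ← LinearMap.comp_apply (sg W B₁ u), hψ,
      map_zero, mul_zero, add_zero] at e1
    exact h6 (by rw [← h5, mul_right_cancel₀ (mul_ne_zero hτ hv₀) e1])

theorem Pq.inf_eq_bot [Finite F] (hC : Ctx B₁ f B M) (hP : Pq B₁ f M u g) (hq : 4 ≤ Nat.card F) :
    TL W (B₁ u) ⊓ Lg W B₁ u g = ⊥ := by
  by_contra h
  obtain ⟨_, ⟨⟨w, rfl⟩, h1⟩, h2⟩ := Submodule.exists_mem_ne_zero_of_ne_bot h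
  obtain ⟨γ, hγ, ν, h3, h4⟩ := (hP.dickson hC).2 hq
  obtain ⟨φ, hφ⟩ := exists_dual_one' (F := F) hP.hu
  obtain ⟨l, h5, h6⟩ := hP.S2 hC (sg'_mem (rk φ w))
  have e1 : sg W B₁ u (rk φ w - l) = rk (B₁ u) w := by simp [hφ, hC.T.L_apply h5]
  have e2 := hγ.2.2.2 (rk φ w - l) (e1 ▸ h1) (by rwa [map_sub])
  have e3 := h4 (rk φ w - l)
  have e4 : sg W B₁ u (γ (rk φ w - l)) = rk (B₁ u) w := by
    rw [← e1, ← sub_eq_zero, ← map_sub, sg_apply, hC.T.L_apply e2.1, map_zero]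
  rw [e1, e4, hγ.2.1 _ ⟨rk_mem_TL _ _, h1⟩] at e3
  apply h2
  have : (1 - ν) • rk (B₁ u) w = 0 := by rw [sub_smul, one_smul, ← e3, sub_self]
  simpa [sub_eq_zero, Ne.symm h3] using this

theorem Pq.le_add [Finite F] (hC : Ctx B₁ f B M) (hP : Pq B₁ f M u g) :
    finrank F W ≤ finrank F U + finrank F ↥(TL W (B₁ u) ⊓ Lg W B₁ u g) := by
  have hs := hC.T.s1
  have hf := hC.T.s2
  by_contra! h
  have hL : finrank F (Lg W B₁ u g) = finrank F W := by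
    rw [LinearEquiv.finrank_map_eq, finrank_TL (hs.left_ne hP.hu)]
  have k1 : ∀ w, f w w ≠ 0 → ∀ v ∈ Lg W B₁ u g, rk (f w ∘ₗ v) w ∈ Lg W B₁ u g := by
    intro w hw v hv
    obtain ⟨r, hr, h1, -⟩ := hf.exists_refl hw
    have h2 := finrank_map_add_inf_ker (Lg W B₁ u g) (LinearMap.llcomp F U W F (f w))
    have h3 := Submodule.finrank_le ((Lg W B₁ u g).map (LinearMap.llcomp F U W F (f w)))
    rw [Subspace.dual_finrank_eq] at h3
    have h4 := (hP.key' hC hP.hg (hC.kr_mem hr (Sp B₁).one_mem)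
      (K := Lg W B₁ u g ⊓ LinearMap.ker (LinearMap.llcomp F U W F (f w))) inf_le_left
      (fun v hv => by
        convert (Submodule.mem_inf.1 hv).1 using 1
        ext y
        have : f w (v y) = 0 := LinearMap.congr_fun hv.2 y
        simp [h1, this]) (by omega)).2 v hv
    convert Submodule.smul_mem _ (f w w / 2) (Submodule.sub_mem _ hv h4) using 1
    ext y
    have := hf.two
    simp only [rk_apply, LinearMap.comp_apply, LinearMap.smul_apply, LinearMap.sub_apply, kr_apply,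
      h1, LinearEquiv.coe_one, id_eq]
    match_scalars <;> field_simp <;> ring
  obtain ⟨v, hv, hv0⟩ := exists_ne_zero_of_finrank (K := Lg W B₁ u g) (by omega)
  obtain ⟨y, hy⟩ : ∃ y, v y ≠ 0 := by
    by_contra! h; exact hv0 (LinearMap.ext h)
  obtain ⟨w, h1, h2⟩ := hf.exists_nonsing_ne (hf.ne_zero hy)
  have hφ : f w ∘ₗ v ≠ 0 := fun h0 => h2 (by rw [hf.symm]; exact LinearMap.congr_fun h0 y)
  refine hP.nk (hC.kron_of_line hP.hu hφ hP.hg fun x => mem_Lg.1 ?_)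
  refine hf.irr_top hC.hW (Z := (Lg W B₁ u g).comap (rk (f w ∘ₗ v))) (k1 w h1 v hv)
    (by rintro rfl; simp at h1) (fun x h3 h4 => ?_) x
  rw [Submodule.mem_comap]
  convert Submodule.smul_mem _ (f w x)⁻¹ (k1 x h3 _ (k1 w h1 v hv)) using 1
  ext y
  simp only [rk_apply, LinearMap.comp_apply, LinearMap.smul_apply, map_smul, smul_eq_mul,
    hf.symm x w]
  match_scalars
  field_simp

theorem siegel_comm (hC : Ctx B₁ f B M) {w₀ : W} (h0 : w₀ ≠ 0) (h1 : f w₀ w₀ = 0)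
    {y : (U →ₗ[F] W) ≃ₗ[F] (U →ₗ[F] W)} (hy : y ∈ M) (h2 : ∀ φ, y (rk φ w₀) = rk φ w₀)
    (x : U) {z₁ z₂ : W} (hz₁ : f w₀ z₁ = 0) (hz₂ : f w₀ z₂ = 0) :
    B (rk (B₁ x) z₁) (y (rk (B₁ x) z₂)) = 0 := by
  have hs := hC.T.s1
  have hf := hC.T.s2
  by_cases hx : x = 0
  · have : rk (B₁ x) z₁ = 0 := by ext; simp [hx]
    simp [this]
  let N : Submodule F (U →ₗ[F] W) := LinearMap.range (LinearMap.smulRightₗ.flip w₀)
  have hN : ∀ φ, rk φ w₀ ∈ N := fun φ => ⟨φ, rfl⟩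
  have hN' : ∀ l ∈ N, ∃ x, l = rk (B₁ x) w₀ := by
    rintro _ ⟨φ, rfl⟩
    obtain ⟨x, rfl⟩ := hs.exists_left φ
    exact ⟨x, rfl⟩
  have hp : ∀ v ∈ perp B N, f w₀ ∘ₗ v = 0 := fun v hv => LinearMap.ext fun x => by
    simpa [hC.T.hB] using hv _ (hN (B₁ x))
  have hyN : ∀ l ∈ N, y l = l := fun l hl => by
    obtain ⟨x, rfl⟩ := hN' l hl
    exact h2 _
  have hy' : ∀ v, f w₀ ∘ₗ y⁻¹ v = f w₀ ∘ₗ v := fun v => LinearMap.ext fun x => by
    rw [LinearMap.comp_apply, LinearMap.comp_apply, ← hC.T.hB, ← hC.T.hB, ← Sp_left (hC.hM hy), h2]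
  have hE : ∀ z, f w₀ z = 0 → ∃ n ∈ M, (∀ l ∈ N, n l = l) ∧
      ∀ v, n v - v - rk (f w₀ ∘ₗ v) z ∈ N := by
    intro z hz
    obtain ⟨E, hE, h3, -⟩ := hf.exists_siegel h1 hz
    refine ⟨kr E 1, hC.kr_mem hE (Sp B₁).one_mem, fun l hl => ?_, fun v => ?_⟩
    · obtain ⟨x, rfl⟩ := hN' l hl
      ext y
      simp [h3, h1, hf.symm z w₀, hz]
    · convert hN (-(f z + (f z z / 2) • f w₀) ∘ₗ v) using 1
      ext y
      simp only [LinearMap.sub_apply, kr_apply, h3, rk_apply, LinearMap.comp_apply,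
        LinearMap.neg_apply, LinearMap.add_apply, LinearMap.smul_apply, smul_eq_mul,
        LinearEquiv.coe_one, id_eq]
      module
  obtain ⟨n, hn, a1, a2⟩ := hE z₁ hz₁
  obtain ⟨k, hk, b1, b2⟩ := hE z₂ hz₂
  have hNN : ∀ u ∈ N, ∀ v ∈ N, B u v = 0 := fun a ha b hb => by
    obtain ⟨x, rfl⟩ := hN' a ha
    obtain ⟨x', rfl⟩ := hN' b hb
    simp [hC.T.hB, h1]
  obtain ⟨Y, hY, hY'⟩ := comm_abs hC.T.s hC.hM hNN hn
    (M.mul_mem (M.mul_mem hy hk) (M.inv_mem hy)) a1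
    (fun l hl => by simp [inv_fix (hyN l hl), b1 l hl, hyN l hl])
    (β := LinearMap.smulRightₗ.flip z₁ ∘ₗ LinearMap.llcomp F U W F (f w₀))
    (β' := (y : (U →ₗ[F] W) →ₗ[F] (U →ₗ[F] W)) ∘ₗ LinearMap.smulRightₗ.flip z₂ ∘ₗ
      LinearMap.llcomp F U W F (f w₀)) a2 (fun v => by
      have := b2 (y⁻¹ v)
      rw [← hyN _ this, hy'] at this
      simp only [map_sub, apply_inv_apply] at this
      exact this)
    (fun v hv => by
      change rk (f w₀ ∘ₗ v) z₁ = 0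
      rw [hp v hv]; ext; simp)
    (fun v hv => by
      change y (rk (f w₀ ∘ₗ v) z₂) = 0
      rw [hp v hv, EmbeddingLike.map_eq_zero_iff]; ext; simp)
  have hρ : ∀ c, ∀ l ∈ N, rho hC.T x c l ∈ N := fun c l hl => by
    obtain ⟨x', rfl⟩ := hN' l hl
    rw [rho_apply, rk_apply, map_smul]
    exact N.add_mem (hN _) (N.smul_mem _ (N.smul_mem _ (hN _)))
  obtain ⟨c1, -, m, hm, c3⟩ := (EL M N).sub_mem ((EL M N).sub_mem ((EL M N).add_mem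
    (EL_conj_stab hY (hC.rho_mem x 1) (hρ 1)) (EL_conj_stab hY (hC.rho_mem x (-1)) (hρ _))) hY) hY
  have e : ∀ v, (cj (rho hC.T x 1) Y + cj (rho hC.T x (-1)) Y - Y - Y) v =
      (-2 : F) • rk (B₁ x) (Y (rk (B₁ x) (v x)) x) := fun v => by
    simp only [LinearMap.sub_apply, LinearMap.add_apply, cj_apply, rho_apply, rho_inv_apply,
      map_sub, map_smul, LinearMap.smul_apply]
    module
  obtain ⟨c, hc⟩ := hC.hX x hx (cj (rho hC.T x 1) Y + cj (rho hC.T x (-1)) Y - Y - Y)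
    ⟨fun v => by rw [e]; exact Submodule.smul_mem _ _ (rk_mem_TL _ _),
      fun v hv => by simp [e, hC.T.L_apply hv], m, hm, c3⟩
  obtain ⟨φ, hφ⟩ := exists_dual_one' (F := F) hx
  obtain ⟨x₁, hx₁⟩ := hs.exists_one hx
  have hc0 : c = 0 := by
    obtain ⟨w, -, hw⟩ := exists_not_mem_one (K := (⊤ : Submodule F W))
      (by have := hC.hW; simp; omega) w₀
    obtain ⟨x', h3⟩ := hN' _ (c1 (rk φ w))
    rw [hc] at h3
    have h4 := LinearMap.congr_fun h3 x₁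
    simp only [rk_apply, hφ, one_smul, LinearMap.smul_apply, hx₁] at h4
    by_contra h5
    exact hw (c⁻¹ * B₁ x' x₁) (by rw [mul_smul, ← h4, smul_smul, inv_mul_cancel₀ h5, one_smul])
  obtain ⟨w₁, hw₁⟩ := exists_apply_eq_one (hf.ne_zero h0)
  have h3 := hc (rk φ w₁)
  rw [e, hc0] at h3
  have h4 : Y (rk (B₁ x) w₁) x = 0 := by
    simpa [hφ, hx₁, hf.two] using LinearMap.congr_fun h3 x₁
  have h5 := hY' (rk (B₁ x) w₁)
  have h6 : f w₀ ∘ₗ rk (B₁ x) w₁ = B₁ x := by ext; simp [hw₁]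
  rw [hC.T.hB', h4] at h5
  change _ = 2 * B (rk (f w₀ ∘ₗ rk (B₁ x) w₁) z₁) (y (rk (f w₀ ∘ₗ rk (B₁ x) w₁) z₂)) at h5
  rw [h6] at h5
  simpa [hf.two] using h5

theorem Pq.small [Finite F] (hC : Ctx B₁ f B M) (hP : Pq B₁ f M u g) (ha : finrank F U ≤ 2)
    {w₀ : W} (hw₀ : w₀ ∈ (Lg W B₁ u g).comap (rk (B₁ u))) (h0 : w₀ ≠ 0) : f w₀ w₀ ≠ 0 ∧ ∃ y ∈ M,
      ¬Kron y ∧ ∀ w ∈ (Lg W B₁ u g).comap (rk (B₁ u)), ∀ φ, y (rk φ w) = rk φ w := by
  have hs := hC.T.s1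
  have hf := hC.T.s2
  have h2 := hf.two
  have hu := hP.hu
  have hperp : ∀ y, B₁ u y = 0 → ∃ c : F, c • u = y := by
    have e1 := hs.finrank_perp (Submodule.span F {u})
    rw [finrank_span_singleton hu] at e1
    have e2 : Submodule.span F {u} = perp B₁ (Submodule.span F {u}) :=
      Submodule.eq_of_le_of_finrank_le (by
        intro x hx k hk
        obtain ⟨c, rfl⟩ := Submodule.mem_span_singleton.1 hx
        obtain ⟨d, rfl⟩ := Submodule.mem_span_singleton.1 hk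
        simp [hs.alt]) (by rw [finrank_span_singleton hu]; omega)
    intro y hy
    rw [← Submodule.mem_span_singleton, e2]
    intro k hk
    obtain ⟨d, rfl⟩ := Submodule.mem_span_singleton.1 hk
    simp [hy]
  have hL : ∀ v : U →ₗ[F] W, v u = 0 → v ∈ TL W (B₁ u) := fun v hv =>
    mem_TL_of (hs.left_ne hu) fun y hy => by
      obtain ⟨c, rfl⟩ := hperp y hy
      simp [hv]
  set A₂ := (Lg W B₁ u g).comap (rk (B₁ u)) with hA₂
  have mA : ∀ w, w ∈ A₂ ↔ rk (B₁ u) w ∈ Lg W B₁ u g := fun _ => Iff.rfl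
  have k0 : ∀ w ∈ A₂, ∀ v ∈ Lg W B₁ u g, f w (v u) = 0 := fun w hw v hv => by
    rw [← hC.T.hB, Lg_iso hC hP.hg hw hv]
  have hnd : ∀ w ∈ A₂, (∀ w' ∈ A₂, f w' w = 0) → w = 0 := fun w hw h => hf.nd w fun w' => by
    obtain ⟨v, h3, h4⟩ := hP.S1 hC (rk_mem_TL (B₁ u) w')
    have := h (w' - v u) (by rw [mA, map_sub]; exact h4)
    simpa [hf.symm (v u) w, k0 w hw v h3] using this
  have k1 : ∀ w ∈ A₂, f w w ≠ 0 → ∀ φ, cj g (sg W B₁ u) (rk φ w) ∈ TL W (B₁ u) := by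
    intro w hw hww φ
    obtain ⟨r, hr, h3, -⟩ := hf.exists_refl hww
    have hz := hC.kr_mem hr (Sp B₁).one_mem
    have e1 : ∀ v : U →ₗ[F] W, f w (v u) = 0 → ∃ c : F, kr r 1 v = v + c • rk (B₁ u) w := by
      intro v hv
      obtain ⟨c, hc⟩ := dual_eq_smul_of_ker (φ := B₁ u) (ψ := f w ∘ₗ v) fun y hy => by
        obtain ⟨d, rfl⟩ := hperp y hy
        simp [hv]
      refine ⟨-(2 * c / f w w), LinearMap.ext fun y => ?_⟩
      have : f w (v y) = c * B₁ u y := LinearMap.congr_fun hc y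
      simp only [kr_apply, LinearEquiv.coe_one, id_eq, h3, this, LinearMap.add_apply,
        LinearMap.smul_apply, rk_apply]
      match_scalars <;> ring
    obtain ⟨ν, hν0, hν⟩ := hC.conj_sigma hu (M.mul_mem (M.mul_mem (M.inv_mem hP.hg) hz) hP.hg)
      (fun l hl => by
        have h4 : g l ∈ Lg W B₁ u g := ⟨l, hl, rfl⟩
        obtain ⟨c, hc⟩ := e1 _ (k0 w hw _ h4)
        rw [LinearEquiv.mul_apply, LinearEquiv.mul_apply, hc]
        exact mem_Lg.1 (Submodule.add_mem _ h4 (Submodule.smul_mem _ _ hw)))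
    have e2 : ∀ v, kr r 1 (cj g (sg W B₁ u) v) = ν • cj g (sg W B₁ u) (kr r 1 v) := fun v => by
      have := congrArg g (hν (g⁻¹ v))
      simpa using this
    have e3 : ν = 1 := by
      by_contra hν1
      obtain ⟨ψ, hψ⟩ := exists_dual_one' (F := F) hu
      have : Lg W B₁ u g ≤ Submodule.span F {rk (B₁ u) w, cj g (sg W B₁ u) (rk ψ w)} := by
        rintro _ ⟨_, ⟨w', rfl⟩, rfl⟩
        let v := g (rk ψ w')
        have e4 : g (rk (B₁ u) w') = cj g (sg W B₁ u) v := by simp [v, hψ]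
        have e5 := e2 (v - (f w (v u) / f w w) • rk ψ w)
        obtain ⟨c, hc⟩ := e1 (v - (f w (v u) / f w w) • rk ψ w) (by simp [hψ, hww])
        obtain ⟨d, hd⟩ := e1 _ (k0 w hw _ (sg'_mem (v - (f w (v u) / f w w) • rk ψ w)))
        rw [hc, hd, map_add, map_smul, sg'_eq_zero hC.T hw, map_sub, map_smul] at e5
        refine Submodule.mem_span_pair.2 ⟨d / (ν - 1), f w (v u) / f w w, ?_⟩
        have := sub_ne_zero.2 hν1
        rw [LinearEquiv.coe_coe, e4]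
        linear_combination (norm := skip) (ν - 1)⁻¹ • e5
        match_scalars <;> field_simp <;> ring
      have e6 := Submodule.finrank_mono this
      have := finrank_span_pair_le (F := F) (rk (B₁ u) w) (cj g (sg W B₁ u) (rk ψ w))
      rw [LinearEquiv.finrank_map_eq, finrank_TL (hs.left_ne hu)] at e6
      have := hC.hW
      omega
    have e4 : kr r 1 (rk φ w) = -rk φ w := by
      ext y
      simp only [kr_apply, LinearEquiv.coe_one, id_eq, h3, rk_apply, map_smul, LinearMap.neg_apply]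
      match_scalars
      field_simp
      ring
    have e5 := e2 (rk φ w)
    obtain ⟨d, hd⟩ := e1 _ (k0 w hw _ (sg'_mem (rk φ w)))
    rw [e4, hd, e3, map_neg] at e5
    have : cj g (sg W B₁ u) (rk φ w) = (-d / 2) • rk (B₁ u) w := by
      linear_combination (norm := skip) (2 : F)⁻¹ • e5
      match_scalars <;> field_simp <;> ring
    rw [this]
    exact Submodule.smul_mem _ _ (rk_mem_TL _ _)
  have k2 : ∀ w ∈ A₂, ∀ φ, cj g (sg W B₁ u) (rk φ w) ∈ TL W (B₁ u) := by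
    intro w hw φ
    obtain ⟨w₁, h3, h4⟩ : ∃ w ∈ A₂, f w w ≠ 0 := by
      by_contra! h
      exact h0 (hnd w₀ hw₀ fun w' hw' => hf.eq_zero_of_sing h hw' hw₀)
    exact hf.span_nonsing hf.exists_c
      (Z := (TL W (B₁ u)).comap (cj g (sg W B₁ u) ∘ₗ rk φ)) h3 h4 (fun x h5 h6 => k1 x h5 h6 φ) hw
  set ρ := rho hC.T u 1
  have hρ' := M.mul_mem (M.mul_mem hP.hg (hC.rho_mem u 1)) (M.inv_mem hP.hg)
  have hy : ρ * (g * ρ * g⁻¹) * ρ⁻¹ * (g * ρ * g⁻¹)⁻¹ ∈ M :=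
    M.mul_mem (M.mul_mem (M.mul_mem (hC.rho_mem u 1) hρ') (M.inv_mem (hC.rho_mem u 1)))
      (M.inv_mem hρ')
  have hy' : ¬ Kron (ρ * (g * ρ * g⁻¹) * ρ⁻¹ * (g * ρ * g⁻¹)⁻¹) := fun h => by
    have := kron_inv (kron_mul (kron_inv (rho_kron hC.T u 1)) h)
    refine hP.nk (F3 hC hP.hab hu hP.hg (F3 hC hP.hab hu hρ' ?_))
    convert this using 1
    simp [ρ, mul_assoc]
  generalize hyd : ρ * (g * ρ * g⁻¹) * ρ⁻¹ * (g * ρ * g⁻¹)⁻¹ = y at hy hy'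
  have k3 : ∀ w ∈ A₂, ∀ φ, y (rk φ w) = rk φ w := by
    intro w hw φ
    have e1 : ∀ v, (g * ρ * g⁻¹) v = v + cj g (sg W B₁ u) v := fun v => by simp [ρ, rho_apply]
    have e2 : ∀ v, (g * ρ * g⁻¹)⁻¹ v = v - cj g (sg W B₁ u) v := fun v => by
      simp [ρ, rho_inv_apply]
    have e3 : cj g (sg W B₁ u) (rk (B₁ u) w) = 0 := sg'_eq_zero hC.T hw
    rw [← hyd, LinearEquiv.mul_apply, LinearEquiv.mul_apply, LinearEquiv.mul_apply, e2,
      rho_inv_apply, e1, rho_apply]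
    simp only [LinearMap.sub_apply, hC.T.L_apply (k2 w hw φ), map_sub, map_smul, rk_apply, e3,
      sg'_eq_zero hC.T (sg'_mem _), LinearMap.add_apply, LinearMap.smul_apply, hs.alt, one_smul,
      sub_zero, smul_zero, zero_smul, add_zero]
    abel
  refine ⟨fun h1 => ?_, y, hy, hy', k3⟩
  have k4 : ∀ z, f w₀ z = 0 → z ∈ A₂ := by
    intro z hz
    obtain ⟨c, hc⟩ : ∃ c : F, c • w₀ = y (rk (B₁ u) z) u := Submodule.mem_span_singleton.1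
      (hf.mem_of_perp fun s hs' => by
        rw [← hC.T.hB]
        exact siegel_comm hC h0 h1 hy (k3 w₀ hw₀) u
          (by rw [hf.symm]; exact hs' _ (Submodule.mem_span_singleton_self _)) hz)
    have e1 : y (rk (B₁ u) z) u = 0 := hnd _ (hc ▸ A₂.smul_mem c hw₀) fun w hw => by
      rw [← hC.T.hB, ← k3 w hw, hC.hM hy, hC.T.hB]
      simp [hs.alt]
    have e2 : TL W (B₁ u) ⊓ Lg W B₁ u g = Lg W B₁ u y ⊓ LinearMap.ker (LinearMap.applyₗ u) :=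
      Submodule.eq_of_le_of_finrank_le (by
        rintro _ ⟨⟨w, rfl⟩, h⟩
        exact ⟨⟨_, rk_mem_TL _ w, k3 w h _⟩, by simp [hs.alt]⟩)
        (hP.E hC hy hy' hu inf_le_left fun v hv => hv.2)
    have e3 : y (rk (B₁ u) z) ∈ TL W (B₁ u) ⊓ Lg W B₁ u g := by
      rw [e2]; exact ⟨⟨_, rk_mem_TL _ _, rfl⟩, e1⟩
    obtain ⟨⟨w, hw⟩, e4⟩ := e3
    have e5 : w ∈ A₂ := by rw [mA, hw]; exact e4
    rw [← k3 w e5] at hw
    rwa [← rk_injective (hs.left_ne hu) (y.injective hw)]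
  obtain ⟨w₁, h3, h4⟩ : ∃ w ∈ A₂, f w w₀ ≠ 0 := by
    by_contra! h
    exact h0 (hnd w₀ hw₀ h)
  rw [hf.symm] at h4
  refine hP.nk (hC.kron_of_line hu (hs.left_ne hu) hP.hg fun w => mem_Lg.1 ((mA w).1 ?_))
  exact (A₂.sub_mem_iff_left (A₂.smul_mem (f w₀ w / f w₀ w₁) h3)).1 (k4 _ (by simp [h4]))

end Cfsg.Agent.H9.Sp.Min4
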